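import Groth.Agent.H83.HopfPts.Gen
import Groth.Agent.Lib.HopfTransfer.FF
import Groth.Agent.Lib.Hopf.Points
import Groth.Agent.Lib.Comod.Cartier
import Mathlib

/-!
Rational points of affine groups (not necessarily of finite type) over an algebraically closed field:
points of Hopf subalgebras extend, and points detect non-nilpotent elements.
-/

set_option autoImplicit false

open TensorProduct

namespace Groth.Agent.H83.HopfPts

universe u v

variable {k : Type u} [Field k] {A : Type v} [CommRing A] [HopfAlgebra k A]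

theorem IsHopfSub.sup {B C : Subalgebra k A} (hB : IsHopfSub k A B) (hC : IsHopfSub k A C) :
    IsHopfSub k A (B ⊔ C) := by
  let T : Subalgebra k (A ⊗[k] A) := (Algebra.TensorProduct.map (B ⊔ C).val (B ⊔ C).val).range
  have key : ∀ (E : Subalgebra k A), E ≤ B ⊔ C → IsHopfSub k A E →
      E ≤ T.comap (Bialgebra.comulAlgHom k A) := by
    intro E hle hE b hb
    obtain ⟨y, hy⟩ := hE.1 b hb
    refine ⟨Algebra.TensorProduct.map (Subalgebra.inclusion hle) (Subalgebra.inclusion hle) y, ?_⟩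
    show Algebra.TensorProduct.map (B ⊔ C).val (B ⊔ C).val _ = Bialgebra.comulAlgHom k A b
    rw [← AlgHom.comp_apply, ← Algebra.TensorProduct.map_comp, Bialgebra.comulAlgHom_apply, ← hy]
    rfl
  refine ⟨fun b hb => ?_, fun b hb => ?_⟩
  · obtain ⟨y, hy⟩ := sup_le (key B le_sup_left hB) (key C le_sup_right hC) hb
    exact ⟨y, hy⟩
  · have h : B ⊔ C ≤ (B ⊔ C).comap (HopfAlgebra.antipodeAlgHom k A) :=
      sup_le (fun x hx => le_sup_left (b := C) (hB.2 x hx)) (fun x hx => le_sup_right (a := B) (hC.2 x hx))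
    exact h hb

theorem isHopfSub_top : IsHopfSub k A ⊤ := by
  refine ⟨fun b _ => ?_, fun b _ => Algebra.mem_top⟩
  generalize CoalgebraStruct.comul (R := k) (A := A) b = z
  induction z using TensorProduct.induction_on with
  | zero => exact zero_mem _
  | tmul x y => exact ⟨⟨x, Algebra.mem_top⟩ ⊗ₜ ⟨y, Algebra.mem_top⟩, rfl⟩
  | add x y hx hy => exact add_mem hx hy

theorem isHopfSub_of_directed {ι : Type*} [Nonempty ι] (C : ι → Subalgebra k A) (hd : Directed (· ≤ ·) C)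
    (h : ∀ i, IsHopfSub k A (C i)) : IsHopfSub k A (⨆ i, C i) := by
  constructor <;> intro b hb <;> rw [← SetLike.mem_coe, Subalgebra.coe_iSup_of_directed hd, Set.mem_iUnion] at hb <;>
    obtain ⟨i, hi⟩ := hb
  · obtain ⟨y, hy⟩ := (h i).1 b hi
    refine ⟨TensorProduct.map (Subalgebra.inclusion (le_iSup C i)).toLinearMap
      (Subalgebra.inclusion (le_iSup C i)).toLinearMap y, ?_⟩
    rw [← LinearMap.comp_apply, ← TensorProduct.map_comp, ← hy]
    rfl
  · exact le_iSup C i ((h i).2 b hi)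

/-- The inclusion between Hopf subalgebras. -/
noncomputable def inclusion {B C : Subalgebra k A} (hB : IsHopfSub k A B) (hC : IsHopfSub k A C) (h : B ≤ C) :
    letI := subHopf hB
    letI := subHopf hC
    B →ₐc[k] C :=
  letI := subHopf hB
  letI := subHopf hC
  BialgHom.ofAlgHom (Subalgebra.inclusion h) rfl (AlgHom.ext fun b => by
    apply map_val_injective C.val Subtype.val_injective C.val Subtype.val_injective
    simp only [AlgHom.comp_apply]
    rw [← AlgHom.comp_apply, ← Algebra.TensorProduct.map_comp]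
    exact (map_subComul hB b).trans (map_subComul hC (Subalgebra.inclusion h b)).symm)

theorem exists_fg_le {C : Subalgebra k A} (hC : IsHopfSub k A C) (s : Finset A) (hs : (s : Set A) ⊆ C) :
    ∃ C₀ : Subalgebra k A, C₀ ≤ C ∧ (s : Set A) ⊆ C₀ ∧ C₀.FG ∧ IsHopfSub k A C₀ := by
  classical
  letI := subHopf hC
  obtain ⟨B, hsB, hfg, hB⟩ := exists_fg_hopfSubalgebra (k := k) (A := C) (s.attach.image fun x : {x // x ∈ s} => (⟨x.1, hs (Finset.mem_coe.mpr x.2)⟩ : C))
  refine ⟨B.map C.val, ?_, ?_, hfg.map _, ?_, ?_⟩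
  · rintro _ ⟨x, -, rfl⟩; exact x.2
  · intro x hx
    exact ⟨⟨x, hs hx⟩, hsB (Finset.mem_coe.mpr (Finset.mem_image.mpr ⟨⟨x, hx⟩, Finset.mem_attach _ _, rfl⟩)), rfl⟩
  · rintro _ ⟨x, hx, rfl⟩
    obtain ⟨y, hy⟩ := hB.1 x hx
    let ι : B →ₐ[k] (B.map C.val) := (C.val.comp B.val).codRestrict _ fun b => ⟨b.1, b.2, rfl⟩
    refine ⟨Algebra.TensorProduct.map ι ι y, ?_⟩
    show Algebra.TensorProduct.map (B.map C.val).val (B.map C.val).val (Algebra.TensorProduct.map ι ι y) = _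
    rw [← AlgHom.comp_apply, ← Algebra.TensorProduct.map_comp]
    refine Eq.trans ?_ (map_subComul hC x)
    show _ = Algebra.TensorProduct.map C.val C.val (CoalgebraStruct.comul (R := k) x)
    rw [← hy, show (B.map C.val).val.comp ι = C.val.comp B.val from rfl, Algebra.TensorProduct.map_comp]
    rfl
  · rintro _ ⟨x, hx, rfl⟩
    exact ⟨_, hB.2 x hx, rfl⟩

theorem exists_finset_of_mem_sup {C D : Subalgebra k A} {x : A} (hx : x ∈ C ⊔ D) :
    ∃ s : Finset A, (s : Set A) ⊆ C ∧ x ∈ Algebra.adjoin k (s : Set A) ⊔ D := by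
  classical
  have hx' : x ∈ Algebra.adjoin k ((C : Set A) ∪ D) := by
    rwa [Algebra.adjoin_union, Algebra.adjoin_eq, Algebra.adjoin_eq]
  clear hx
  induction hx' using Algebra.adjoin_induction with
  | mem x hx =>
    rcases hx with hx | hx
    · exact ⟨{x}, by simpa using hx, le_sup_left (b := D) (Algebra.subset_adjoin (by simp))⟩
    · exact ⟨∅, by simp, le_sup_right (a := Algebra.adjoin k (((∅ : Finset A) : Set A))) hx⟩
  | algebraMap r => exact ⟨∅, by simp, Subalgebra.algebraMap_mem _ r⟩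
  | add x y _ _ hx hy =>
    obtain ⟨s, hs, hxs⟩ := hx; obtain ⟨t, ht, hyt⟩ := hy
    refine ⟨s ∪ t, by simp [hs, ht], add_mem ?_ ?_⟩
    · exact sup_le_sup_right (Algebra.adjoin_mono (by simp)) D hxs
    · exact sup_le_sup_right (Algebra.adjoin_mono (by simp)) D hyt
  | mul x y _ _ hx hy =>
    obtain ⟨s, hs, hxs⟩ := hx; obtain ⟨t, ht, hyt⟩ := hy
    refine ⟨s ∪ t, by simp [hs, ht], mul_mem ?_ ?_⟩
    · exact sup_le_sup_right (Algebra.adjoin_mono (by simp)) D hxs
    · exact sup_le_sup_right (Algebra.adjoin_mono (by simp)) D hyt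

variable [IsAlgClosed k]

/-- One step of the extension of points. -/
theorem exists_extend_step {C D : Subalgebra k A} (hC : IsHopfSub k A C) (hD : IsHopfSub k A D) (hDfg : D.FG)
    (g : C →ₐ[k] k) :
    ∃ h : (C ⊔ D : Subalgebra k A) →ₐ[k] k, ∀ c : C, h (Subalgebra.inclusion le_sup_left c) = g c := by
  classical
  let C' := C ⊔ D
  let ι : C →ₐ[k] C' := Subalgebra.inclusion le_sup_left
  let J : Ideal C' := (RingHom.ker g).map ι
  have hne : J ≠ ⊤ := by
    intro htop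
    have key : ∀ z ∈ J, ∃ s : Finset A, (s : Set A) ⊆ C ∧ ∀ C₀ : Subalgebra k A, C₀ ≤ C → (s : Set A) ⊆ C₀ →
        (z : A) ∈ Submodule.span k {w : A | ∃ x ∈ C₀ ⊔ D, ∃ y ∈ C₀, ∃ hy : y ∈ C, g ⟨y, hy⟩ = 0 ∧ x * y = w} := by
      intro z hz
      induction hz using Submodule.span_induction with
      | zero => exact ⟨∅, by simp, fun C₀ _ _ => by simp⟩
      | add x y _ _ hx hy =>
        obtain ⟨s, hs, hxs⟩ := hx; obtain ⟨t, ht, hyt⟩ := hy
        refine ⟨s ∪ t, by simp [hs, ht], fun C₀ h0 hst => ?_⟩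
        rw [Finset.coe_union, Set.union_subset_iff] at hst
        rw [Subalgebra.coe_add]
        exact add_mem (hxs C₀ h0 hst.1) (hyt C₀ h0 hst.2)
      | smul c x _ hx =>
        obtain ⟨s, hs, hxs⟩ := hx
        obtain ⟨t, ht, hct⟩ := exists_finset_of_mem_sup c.2
        refine ⟨s ∪ t, by simp [hs, ht], fun C₀ h0 hst => ?_⟩
        rw [Finset.coe_union, Set.union_subset_iff] at hst
        have hc : (c : A) ∈ C₀ ⊔ D := sup_le_sup_right (Algebra.adjoin_le hst.2) D hct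
        have h1 := hxs C₀ h0 hst.1
        rw [smul_eq_mul, Subalgebra.coe_mul]
        generalize (x : A) = w at h1 ⊢
        induction h1 using Submodule.span_induction with
        | mem w hw =>
          obtain ⟨x, hx, y, hy, hyC, hgy, rfl⟩ := hw
          exact Submodule.subset_span ⟨(c : A) * x, mul_mem hc hx, y, hy, hyC, hgy, mul_assoc _ _ _⟩
        | zero => simp
        | add p q _ _ hp hq => rw [mul_add]; exact add_mem hp hq
        | smul r p _ hp => rw [mul_smul_comm]; exact Submodule.smul_mem _ r hp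
      | mem x hx =>
        obtain ⟨y, hy, rfl⟩ := hx
        refine ⟨{(y : A)}, by simp, fun C₀ _ hst => Submodule.subset_span
          ⟨1, one_mem _, (y : A), hst (by simp), y.2, RingHom.mem_ker.mp hy, one_mul _⟩⟩
    obtain ⟨s, hs, h1⟩ := key 1 (htop ▸ Submodule.mem_top)
    obtain ⟨C₀, hC₀, hsC₀, hfg₀, hH₀⟩ := exists_fg_le hC s hs
    have h1' := h1 C₀ hC₀ hsC₀
    letI := subHopf hH₀
    letI := subHopf (hH₀.sup hD)
    haveI : Algebra.FiniteType k (C₀ ⊔ D : Subalgebra k A) := ⟨(Subalgebra.fg_top _).mpr (hfg₀.sup hDfg)⟩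
    let f := inclusion hH₀ (hH₀.sup hD) le_sup_left
    have hff := Groth.Agent.Lib.HopfTransfer.faithfullyFlat_of_injective f
      (fun a b hab => Subalgebra.inclusion_injective (show C₀ ≤ C₀ ⊔ D from le_sup_left) hab)
    let g₀ : C₀ →ₐ[k] k := g.comp (Subalgebra.inclusion hC₀)
    letI := (f : C₀ →+* (C₀ ⊔ D : Subalgebra k A)).toAlgebra
    haveI : Module.FaithfullyFlat C₀ (C₀ ⊔ D : Subalgebra k A) := hff
    have hmem : (1 : (C₀ ⊔ D : Subalgebra k A)) ∈ (RingHom.ker g₀).map (algebraMap C₀ (C₀ ⊔ D : Subalgebra k A)) := by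
      have gen : ∀ w ∈ Submodule.span k {w : A | ∃ x ∈ C₀ ⊔ D, ∃ y ∈ C₀, ∃ hy : y ∈ C, g ⟨y, hy⟩ = 0 ∧ x * y = w},
          ∃ hw : w ∈ C₀ ⊔ D, (⟨w, hw⟩ : (C₀ ⊔ D : Subalgebra k A)) ∈
            (RingHom.ker g₀).map (algebraMap C₀ (C₀ ⊔ D : Subalgebra k A)) := by
        intro w hw
        induction hw using Submodule.span_induction with
        | zero => exact ⟨zero_mem _, zero_mem _⟩
        | add p q _ _ hp hq =>
          obtain ⟨hp, hp'⟩ := hp; obtain ⟨hq, hq'⟩ := hq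
          exact ⟨add_mem hp hq, add_mem hp' hq'⟩
        | smul r p _ hp =>
          obtain ⟨hp, hp'⟩ := hp
          exact ⟨Subalgebra.smul_mem _ hp r, Submodule.smul_of_tower_mem _ r hp'⟩
        | mem w hw =>
          obtain ⟨x, hx, y, hy, hyC, hgy, rfl⟩ := hw
          refine ⟨mul_mem hx (le_sup_left (b := D) hy), ?_⟩
          exact Ideal.mul_mem_left _ (⟨x, hx⟩ : (C₀ ⊔ D : Subalgebra k A))
            (Ideal.mem_map_of_mem (algebraMap C₀ (C₀ ⊔ D : Subalgebra k A))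
              (show (⟨y, hy⟩ : C₀) ∈ RingHom.ker g₀ from hgy))
      obtain ⟨_, h⟩ := gen _ h1'
      exact h
    have h2 : (1 : C₀) ∈ ((RingHom.ker g₀).map (algebraMap C₀ (C₀ ⊔ D : Subalgebra k A))).comap
        (algebraMap C₀ (C₀ ⊔ D : Subalgebra k A)) := by
      rw [Ideal.mem_comap, map_one]; exact hmem
    rw [Ideal.comap_map_eq_self_of_faithfullyFlat, RingHom.mem_ker, map_one] at h2
    exact one_ne_zero h2
  obtain ⟨m, hm, hle⟩ := Ideal.exists_le_maximal J hne
  let π : C' →ₐ[k] C' ⧸ m := Ideal.Quotient.mkₐ k m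
  have hπC : ∀ c : C, π (ι c) = algebraMap k _ (g c) := by
    intro c
    have h1 : c - algebraMap k C (g c) ∈ RingHom.ker g := by rw [RingHom.mem_ker, map_sub, AlgHom.commutes]; simp
    have h2 : π (ι (c - algebraMap k C (g c))) = 0 :=
      Ideal.Quotient.eq_zero_iff_mem.mpr (hle (Ideal.mem_map_of_mem ι h1))
    rwa [map_sub, AlgHom.commutes, map_sub, AlgHom.commutes, sub_eq_zero] at h2
  let πD : D →ₐ[k] C' ⧸ m := π.comp (Subalgebra.inclusion le_sup_right)
  haveI : Algebra.FiniteType k D := ⟨(Subalgebra.fg_top _).mpr hDfg⟩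
  have hsurj : Function.Surjective πD := by
    intro z
    obtain ⟨c, rfl⟩ := Ideal.Quotient.mk_surjective z
    let U : Subalgebra k A := (πD.range.comap π).map C'.val
    have hU : C ⊔ D ≤ U := sup_le (fun x hx => ⟨ι ⟨x, hx⟩, ⟨algebraMap k D (g ⟨x, hx⟩), by
        show πD _ = π _
        rw [AlgHom.commutes, hπC]⟩, rfl⟩)
      (fun x hx => ⟨Subalgebra.inclusion le_sup_right ⟨x, hx⟩, ⟨⟨x, hx⟩, rfl⟩, rfl⟩)
    obtain ⟨c', hc', he⟩ := hU c.2
    obtain rfl : c' = c := Subtype.ext he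
    exact hc'
  haveI : Algebra.FiniteType k (C' ⧸ m) := Algebra.FiniteType.of_surjective πD hsurj
  letI := Ideal.Quotient.field m
  haveI : (⊥ : Ideal (C' ⧸ m)).IsMaximal := Ideal.bot_isMaximal
  obtain ⟨e, -⟩ := Groth.Agent.Lib.Hopf.Points.exists_point_of_isMaximal (k := k) (⊥ : Ideal (C' ⧸ m))
  refine ⟨e.comp π, fun c => ?_⟩
  show e (π (ι c)) = g c
  rw [hπC, AlgHom.commutes]; rfl

/-- A point of a Hopf subalgebra extends to the whole Hopf algebra. -/
theorem exists_extension {C : Subalgebra k A} (hC : IsHopfSub k A C) (g : C →ₐ[k] k) :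
    ∃ h : A →ₐ[k] k, ∀ c : C, h c = g c := by
  classical
  let fst := AlgHom.fst k A k
  let S : Set (Subalgebra k (A × k)) :=
    {Γ | (∀ x ∈ Γ, x.1 = 0 → x.2 = 0) ∧ IsHopfSub k A (Γ.map fst)}
  let Γ₀ : Subalgebra k (A × k) := (C.val.prod g).range
  have hΓ₀ : Γ₀.map fst = C := by
    ext x
    constructor
    · rintro ⟨_, ⟨c, rfl⟩, rfl⟩; exact c.2
    · intro hx; exact ⟨_, ⟨⟨x, hx⟩, rfl⟩, rfl⟩
  have h0 : Γ₀ ∈ S := by
    refine ⟨?_, by rw [hΓ₀]; exact hC⟩
    rintro _ ⟨c, rfl⟩ h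
    have : c = 0 := Subtype.ext h
    simp [this]
  obtain ⟨Γ, hle, hmax⟩ := zorn_le_nonempty₀ S (fun c hc hchain y hy => by
    haveI : Nonempty c := ⟨⟨y, hy⟩⟩
    have hd : Directed (· ≤ ·) (fun i : c => (i : Subalgebra k (A × k))) := hchain.directedOn.directed_val
    refine ⟨⨆ i : c, (i : Subalgebra k (A × k)), ⟨?_, ?_⟩, fun z hz => le_iSup (fun i : c => (i : Subalgebra k (A × k))) ⟨z, hz⟩⟩
    · intro x hx h
      rw [← SetLike.mem_coe, Subalgebra.coe_iSup_of_directed hd, Set.mem_iUnion] at hx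
      obtain ⟨i, hi⟩ := hx
      exact (hc i.2).1 x hi h
    · rw [(Subalgebra.gc_map_comap fst).l_iSup]
      exact isHopfSub_of_directed _ (fun i j => (hd i j).imp fun l hl => ⟨Subalgebra.map_mono hl.1, Subalgebra.map_mono hl.2⟩) (fun i => (hc i.2).2)) Γ₀ h0
  obtain ⟨hfun, hHopf⟩ := hmax.prop
  let p : Γ →ₐ[k] (Γ.map fst) := (fst.comp Γ.val).codRestrict _ fun x => ⟨x.1, x.2, rfl⟩
  have hp : Function.Bijective p := by
    constructor
    · rw [injective_iff_map_eq_zero]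
      intro x hx
      have h1 : (x : A × k).1 = 0 := congrArg Subtype.val hx
      exact Subtype.ext (Prod.ext h1 (hfun _ x.2 h1))
    · rintro ⟨_, x, hx, rfl⟩; exact ⟨⟨x, hx⟩, rfl⟩
  let g' : (Γ.map fst) →ₐ[k] k := ((AlgHom.snd k A k).comp Γ.val).comp (AlgEquiv.ofBijective p hp).symm.toAlgHom
  have hg' : ∀ (x : A × k) (hx : x ∈ Γ), g' ⟨x.1, x, hx, rfl⟩ = x.2 := by
    intro x hx
    have : (AlgEquiv.ofBijective p hp).symm ⟨x.1, x, hx, rfl⟩ = ⟨x, hx⟩ := by
      rw [AlgEquiv.symm_apply_eq]; rfl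
    show (((AlgEquiv.ofBijective p hp).symm ⟨x.1, x, hx, rfl⟩ : Γ) : A × k).2 = x.2
    rw [this]
  have htop : ∀ a : A, a ∈ Γ.map fst := by
    intro a
    obtain ⟨D, haD, hDfg, hD⟩ := exists_fg_hopfSubalgebra (k := k) {a}
    obtain ⟨h, hh⟩ := exists_extend_step hHopf hD hDfg g'
    let Γ' : Subalgebra k (A × k) := ((Γ.map fst ⊔ D).val.prod h).range
    have hmap : Γ'.map fst = Γ.map fst ⊔ D := by
      ext x
      constructor
      · rintro ⟨_, ⟨c, rfl⟩, rfl⟩; exact c.2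
      · intro hx; exact ⟨_, ⟨⟨x, hx⟩, rfl⟩, rfl⟩
    have hΓ' : Γ' ∈ S := by
      refine ⟨?_, by rw [hmap]; exact hHopf.sup hD⟩
      rintro _ ⟨c, rfl⟩ h1
      have : c = 0 := Subtype.ext h1
      simp [this]
    have hle' : Γ ≤ Γ' := fun x hx => ⟨Subalgebra.inclusion le_sup_left ⟨x.1, x, hx, rfl⟩,
      Prod.ext rfl ((hh _).trans (hg' x hx))⟩
    have : a ∈ Γ'.map fst := by rw [hmap]; exact le_sup_right (a := Γ.map fst) (haD (by simp))
    obtain ⟨x, hx, rfl⟩ := this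
    exact ⟨x, hmax.le_of_ge hΓ' hle' hx, rfl⟩
  refine ⟨g'.comp ((AlgHom.id k A).codRestrict _ htop), fun c => ?_⟩
  exact hg' ((c : A), g c) (hle ⟨c, rfl⟩)

/-- Points detect non-nilpotent elements. -/
theorem exists_point_ne_zero {a : A} (ha : ¬ IsNilpotent a) : ∃ g : A →ₐ[k] k, g a ≠ 0 := by
  obtain ⟨B, haB, hfg, hB⟩ := exists_fg_hopfSubalgebra (k := k) {a}
  haveI : Algebra.FiniteType k B := ⟨(Subalgebra.fg_top _).mpr hfg⟩
  haveI : IsJacobsonRing B := isJacobsonRing_of_finiteType (A := k)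
  let b : B := ⟨a, haB (by simp)⟩
  have hb : b ∉ Ideal.jacobson (⊥ : Ideal B) := by
    rw [← Ideal.radical_eq_jacobson]
    intro hb
    obtain ⟨n, hn⟩ := hb
    exact ha ⟨n, congrArg Subtype.val ((Ideal.mem_bot).mp hn)⟩
  rw [Ideal.jacobson, Ideal.mem_sInf] at hb
  push Not at hb
  obtain ⟨m, hm, hbm⟩ := hb
  haveI : m.IsMaximal := hm.2
  obtain ⟨g, hg⟩ := Groth.Agent.Lib.Hopf.Points.exists_point_of_isMaximal (k := k) m
  obtain ⟨h, hh⟩ := exists_extension hB g
  refine ⟨h, fun h0 => hbm ?_⟩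
  rw [← hg, RingHom.mem_ker, ← hh b]
  exact h0

/-- Cartier's theorem, without finiteness. -/
theorem isReduced [CharZero k] : IsReduced A := by
  refine ⟨fun a ha => ?_⟩
  obtain ⟨B, haB, hfg, hB⟩ := exists_fg_hopfSubalgebra (k := k) {a}
  letI := subHopf hB
  haveI : Algebra.FiniteType k B := ⟨(Subalgebra.fg_top _).mpr hfg⟩
  obtain ⟨n, q, hq⟩ := Algebra.FiniteType.iff_quotient_mvPolynomial''.1 (inferInstance : Algebra.FiniteType k B)
  haveI : Small.{u} B := small_of_surjective hq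
  let e : Shrink.{u} B ≃ₐ[k] B := Shrink.algEquiv k B
  letI : HopfAlgebra k (Shrink.{u} B) := Groth.Agent.Lib.HopfTransfer.hopfAlgebra e
  haveI : Algebra.FiniteType k (Shrink.{u} B) := Algebra.FiniteType.of_surjective e.symm.toAlgHom e.symm.surjective
  haveI : IsReduced (Shrink.{u} B) := Groth.Agent.Lib.Comod.Cartier.isReduced (k := k)
  let b : B := ⟨a, haB (by simp)⟩
  have : IsNilpotent (e.symm b) := by
    obtain ⟨m, hm⟩ := ha
    exact (show IsNilpotent b from ⟨m, Subtype.ext hm⟩).map e.symm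
  exact congrArg Subtype.val (e.symm.injective (this.eq_zero.trans (map_zero e.symm).symm))

end Groth.Agent.H83.HopfPts
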