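import Groth.Agent.H83.HopfPts.Points
import Groth.Agent.Lib.UnitsProd.Algebra
import Mathlib

/-! Connected reduced affine groups are integral; their units are scalar multiples of characters. -/

set_option autoImplicit false

open TensorProduct

namespace Groth.Agent.H83.HopfPts

universe u v

open Groth.Agent.Lib.Comod Groth.Agent.Lib.Comod.Cartier

variable {k : Type u} [Field k] [IsAlgClosed k] {H : Type u} [CommRing H] [HopfAlgebra k H]
  [Algebra.FiniteType k H]

/-- Translation as an automorphism. -/
noncomputable def transEquiv (g : H →ₐ[k] k) : H ≃ₐ[k] H :=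
  AlgEquiv.ofBijective (trans g) (by
    have hinj : ∀ h : H →ₐ[k] k, Function.Injective (trans h) := fun h a b hab => by
      rw [← trans_invPt h a, hab, trans_invPt h b]
    refine ⟨hinj g, fun y => ⟨trans (Orbits.invPt g) y, ?_⟩⟩
    exact hinj (Orbits.invPt g) (trans_invPt g _))

theorem counit_transEquiv (g : H →ₐ[k] k) (a : H) :
    Bialgebra.counitAlgHom k H (transEquiv g a) = g a := counit_trans g a

theorem isDomain_of_connected (k : Type u) [Field k] [IsAlgClosed k] {H : Type u} [CommRing H] [HopfAlgebra k H]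
    [Algebra.FiniteType k H] [IsReduced H] (hconn : ∀ e : H, IsIdempotentElem e → e = 0 ∨ e = 1) :
    IsDomain H := by
  classical
  haveI : IsNoetherianRing H := Algebra.FiniteType.isNoetherianRing k H
  haveI : Nontrivial H := (Bialgebra.counitAlgHom k H).toRingHom.domain_nontrivial
  have hfin := minimalPrimes.finite_of_isNoetherianRing H
  haveI := RingHom.ker_isPrime (Bialgebra.counitAlgHom k H)
  obtain ⟨p, hp, -⟩ := Ideal.exists_minimalPrimes_le (I := (⊥ : Ideal H)) (J := RingHom.ker (Bialgebra.counitAlgHom k H)) bot_le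
  haveI hpp : p.IsPrime := hp.isPrime
  let J : Ideal H := (hfin.toFinset.erase p).inf id
  have hJp : ¬ J ≤ p := by
    intro h
    obtain ⟨q, hq, hqp⟩ := (hpp.inf_le' ).mp h
    rw [Finset.mem_erase, Set.Finite.mem_toFinset] at hq
    exact hq.1 (le_antisymm hqp (hp.2 ⟨hq.2.isPrime, bot_le⟩ hqp))
  obtain ⟨a, haJ, hap⟩ := SetLike.not_le_iff_exists.mp hJp
  obtain ⟨g₀, hg₀⟩ := exists_point_ne_zero (k := k) (a := a) (fun ⟨n, hn⟩ => hap (hpp.mem_of_pow_mem n (hn ▸ zero_mem p)))
  have huniq : ∀ q ∈ minimalPrimes H, q ≤ RingHom.ker g₀ → q = p := by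
    intro q hq hle
    by_contra hne
    exact hg₀ (RingHom.mem_ker.mp (hle ((Finset.inf_le (f := id) (Finset.mem_erase.mpr ⟨hne, hfin.mem_toFinset.mpr hq⟩) : J ≤ q) haJ)))
  have hcop : p ⊔ J = ⊤ := by
    by_contra hne
    obtain ⟨m, hm, hle⟩ := Ideal.exists_le_maximal _ hne
    obtain ⟨g, hg⟩ := Groth.Agent.Lib.Hopf.Points.exists_point_of_isMaximal (k := k) m
    obtain ⟨q, hq, hqm⟩ := (hm.isPrime.inf_le').mp (le_sup_right.trans hle)
    rw [Finset.mem_erase, Set.Finite.mem_toFinset] at hq
    let φ : H ≃ₐ[k] H := (transEquiv g).trans (transEquiv g₀).symm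
    have hφ : ∀ x, g₀ (φ x) = g x := fun x => by
      rw [← counit_transEquiv g₀, ← counit_transEquiv g]
      simp [φ]
    have key : ∀ q ∈ minimalPrimes H, q ≤ m → q.comap φ.symm = p := by
      intro q hq hqm
      haveI := hq.isPrime
      refine huniq _ ⟨⟨inferInstance, bot_le⟩, fun r hr hle => ?_⟩ (fun x hx => ?_)
      · have h1 : r.comap φ ≤ q := fun x hx => by
          have := hle hx
          rw [Ideal.mem_comap, φ.symm_apply_apply] at this
          exact this
        haveI := hr.1
        have h2 := hq.2 ⟨inferInstance, bot_le⟩ h1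
        intro x hx
        have h3 := h2 hx
        rwa [Ideal.mem_comap, φ.apply_symm_apply] at h3
      · rw [RingHom.mem_ker]
        have h1 : φ.symm x ∈ RingHom.ker g := hg ▸ hqm hx
        rw [RingHom.mem_ker, ← hφ, φ.apply_symm_apply] at h1
        exact h1
    apply hq.1
    have h1 := (key q hq.2 hqm).trans (key p hp (le_sup_left.trans hle)).symm
    exact Ideal.comap_injective_of_surjective φ.symm φ.symm.surjective h1
  obtain ⟨x, hx, e, he, hxe⟩ := Submodule.mem_sup.mp (hcop.symm ▸ Submodule.mem_top : (1 : H) ∈ p ⊔ J)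
  have hzero : ∀ y, y ∈ p → y ∈ J → y = 0 := by
    intro y hyp hyJ
    refine IsNilpotent.eq_zero (mem_nilradical.mp ?_)
    rw [nilradical_eq_sInf, Ideal.mem_sInf]
    intro r hr
    haveI : r.IsPrime := hr
    obtain ⟨q, hq, hqr⟩ := Ideal.exists_minimalPrimes_le (I := (⊥ : Ideal H)) (J := r) bot_le
    by_cases hqp : q = p
    · exact hqr (hqp ▸ hyp)
    · exact hqr ((Finset.inf_le (f := id) (Finset.mem_erase.mpr ⟨hqp, hfin.mem_toFinset.mpr hq⟩) : J ≤ q) hyJ)
  have hidem : IsIdempotentElem e := by
    show e * e = e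
    have := hzero (x * e) (Ideal.mul_mem_right e p hx) (Ideal.mul_mem_left J x he)
    linear_combination e * hxe - this
  rcases hconn e hidem with rfl | rfl
  · exact absurd (by rwa [add_zero] at hxe; ) (fun h : x = 1 => hpp.ne_top ((Ideal.eq_top_iff_one p).mpr (h ▸ hx)))
  · have hp0 : p = ⊥ := (Submodule.eq_bot_iff p).mpr fun y hy => hzero y hy ((Ideal.eq_top_iff_one J).mpr he ▸ Submodule.mem_top)
    haveI : (⊥ : Ideal H).IsPrime := hp0 ▸ hpp
    exact (Ideal.Quotient.isDomain_iff_prime (⊥ : Ideal H)).mpr this |> fun h => (RingEquiv.quotientBot H).symm.toMulEquiv.isDomain (H ⧸ (⊥ : Ideal H))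

theorem eq_zero_of_points [IsReduced H] {z : H ⊗[k] H}
    (h : ∀ g g' : H →ₐ[k] k, Algebra.TensorProduct.productMap g g' z = 0) : z = 0 := by
  classical
  let b := Module.Free.chooseBasis k H
  apply (TensorProduct.equivFinsuppOfBasisRight b).injective
  rw [map_zero]
  ext i
  refine Groth.Agent.Lib.Hopf.Points.eq_zero_of_forall_point_eq_zero (k := k) fun g => ?_
  let w : H := Algebra.TensorProduct.productMap ((Algebra.ofId k H).comp g) (AlgHom.id k H) z
  have hw0 : w = 0 := by
    refine Groth.Agent.Lib.Hopf.Points.eq_zero_of_forall_point_eq_zero (k := k) fun g' => ?_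
    have : g'.comp (Algebra.TensorProduct.productMap ((Algebra.ofId k H).comp g) (AlgHom.id k H)) =
        Algebra.TensorProduct.productMap g g' := Algebra.TensorProduct.ext' fun a b => by simp [Algebra.ofId_apply]
    exact (DFunLike.congr_fun this z).trans (h g g')
  have key : ∀ y : H ⊗[k] H, b.coord i (Algebra.TensorProduct.productMap ((Algebra.ofId k H).comp g) (AlgHom.id k H) y) =
      g (TensorProduct.equivFinsuppOfBasisRight b y i) := by
    intro y
    induction y using TensorProduct.induction_on with
    | zero => simp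
    | tmul p q =>
      rw [Algebra.TensorProduct.productMap_apply_tmul, AlgHom.comp_apply, Algebra.ofId_apply, AlgHom.id_apply, ← Algebra.smul_def]
      simp [mul_comm]
    | add p q hp hq => rw [map_add, map_add, hp, hq, map_add, Finsupp.add_apply, map_add]
  rw [← key, show Algebra.TensorProduct.productMap ((Algebra.ofId k H).comp g) (AlgHom.id k H) z = w from rfl, hw0, map_zero]

/-- Rosenlicht: a unit with value one at the identity of a connected reduced group is a character. -/
theorem comul_unit [IsReduced H] (hconn : ∀ e : H, IsIdempotentElem e → e = 0 ∨ e = 1) {u : H}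
    (hu : IsUnit u) (hε : Bialgebra.counitAlgHom k H u = 1) : Bialgebra.comulAlgHom k H u = u ⊗ₜ[k] u := by
  haveI := isDomain_of_connected k hconn
  rw [← sub_eq_zero]
  refine eq_zero_of_points (k := k) fun g g' => ?_
  rw [map_sub, Algebra.TensorProduct.productMap_apply_tmul, sub_eq_zero]
  have h := Groth.Agent.Lib.UnitsProd.ev_mul_ev (Bialgebra.comulAlgHom k H u) (hu.map _) g
    (Bialgebra.counitAlgHom k H) g' (Bialgebra.counitAlgHom k H)
  have e1 : ∀ x : H →ₐ[k] k, Algebra.TensorProduct.productMap x (Bialgebra.counitAlgHom k H) (Bialgebra.comulAlgHom k H u) = x u := fun x => by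
    have hgen : ∀ z : H ⊗[k] H, Algebra.TensorProduct.productMap x (Bialgebra.counitAlgHom k H) z =
        x (TensorProduct.rid k H ((CoalgebraStruct.counit (R := k) (A := H)).lTensor H z)) := by
      intro z
      induction z using TensorProduct.induction_on with
      | zero => simp
      | tmul p q => simp [mul_comm]
      | add p q hp hq => simp [hp, hq]
    rw [hgen, Bialgebra.comulAlgHom_apply, Coalgebra.lTensor_counit_comul]
    simp
  have e2 : ∀ x : H →ₐ[k] k, Algebra.TensorProduct.productMap (Bialgebra.counitAlgHom k H) x (Bialgebra.comulAlgHom k H u) = x u := fun x => by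
    have hgen : ∀ z : H ⊗[k] H, Algebra.TensorProduct.productMap (Bialgebra.counitAlgHom k H) x z =
        x (TensorProduct.lid k H ((CoalgebraStruct.counit (R := k) (A := H)).rTensor H z)) := by
      intro z
      induction z using TensorProduct.induction_on with
      | zero => simp
      | tmul p q => simp
      | add p q hp hq => simp [hp, hq]
    rw [hgen, Bialgebra.comulAlgHom_apply, Coalgebra.rTensor_counit_comul]
    simp
  rw [e1, e1, e2, hε, mul_one] at h
  rw [h, mul_comm]

end Groth.Agent.H83.HopfPts
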