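import Groth.Agent.Lib.Hopf.SubHopf
import Groth.Agent.Lib.Hopf.SubStruct

/-!
Universe-polymorphic versions of the coefficient Hopf subalgebra and of the structure on a Hopf
subalgebra (adapted from `Lib.Hopf.Coeff` and `Lib.Hopf.SubStruct`).
-/

open TensorProduct

namespace Groth.Agent.H83.HopfPts

universe u v w

open Groth.Agent.Lib.Hopf.ComodRing Groth.Agent.Lib.Hopf.Coeff HopfRep

/-- A subalgebra stable under comultiplication and antipode (any universes). -/
def IsHopfSub (k : Type u) (A : Type v) [CommRing k] [CommRing A] [HopfAlgebra k A] (B : Subalgebra k A) : Prop :=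
  (∀ b ∈ B, CoalgebraStruct.comul (R := k) (A := A) b ∈
      LinearMap.range (TensorProduct.map B.val.toLinearMap B.val.toLinearMap)) ∧
    ∀ b ∈ B, HopfAlgebraStruct.antipode (R := k) (A := A) b ∈ B

section Coeff

variable {R : Type u} {A : Type v} [CommRing R] [CommRing A] [HopfAlgebra R A]
  {d : Type w} [Fintype d] [DecidableEq d] {a : Matrix d d A}

lemma isHopfSubalgebra_coeffAlg (ha : IsCorep R a) :
    IsHopfSub R A (coeffAlg R a) := by
  set B := coeffAlg R a with hB
  refine ⟨fun b hb => ?_, fun b hb => ?_⟩
  · let T : Subalgebra R (A ⊗[R] A) := (Algebra.TensorProduct.map B.val B.val).range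
    have hsub : B ≤ T.comap (Bialgebra.comulAlgHom R A) := by
      rw [hB, coeffAlg, Algebra.adjoin_le_iff]
      rintro x (⟨⟨i, j⟩, rfl⟩ | hx)
      · show Bialgebra.comulAlgHom R A (a i j) ∈ T
        rw [Bialgebra.comulAlgHom_apply, ha.1]
        refine Subalgebra.sum_mem _ fun l _ => ?_
        exact ⟨⟨a i l, entry_mem_coeffAlg i l⟩ ⊗ₜ ⟨a l j, entry_mem_coeffAlg l j⟩, rfl⟩
      · rw [Set.mem_singleton_iff] at hx
        subst hx
        show Bialgebra.comulAlgHom R A _ ∈ T
        rw [comul_detInv ha]
        exact ⟨⟨_, detInv_mem_coeffAlg⟩ ⊗ₜ ⟨_, detInv_mem_coeffAlg⟩, rfl⟩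
    obtain ⟨y, hy⟩ := hsub hb
    exact ⟨y, hy⟩
  · have hsub : B ≤ B.comap (HopfAlgebra.antipodeAlgHom R A) := by
      rw [hB, coeffAlg, Algebra.adjoin_le_iff]
      rintro x (⟨⟨i, j⟩, rfl⟩ | hx)
      · show HopfAlgebra.antipodeAlgHom R A (a i j) ∈ coeffAlg R a
        have h := congrFun (congrFun (map_antipode_eq ha) i) j
        simp only [Matrix.map_apply, Matrix.smul_apply, smul_eq_mul] at h
        rw [show HopfAlgebra.antipodeAlgHom R A (a i j) = _ from h]
        refine mul_mem detInv_mem_coeffAlg ?_
        let a' : Matrix d d B := fun k l => ⟨a k l, entry_mem_coeffAlg k l⟩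
        have : a.adjugate = B.val.mapMatrix a'.adjugate := by
          rw [AlgHom.map_adjugate]; rfl
        rw [this]
        exact (a'.adjugate i j).2
      · rw [Set.mem_singleton_iff] at hx
        subst hx
        show HopfAlgebra.antipodeAlgHom R A (detInv R a) ∈ coeffAlg R a
        have h1 : HopfAlgebra.antipodeAlgHom R A a.det = detInv R a := by
          rw [AlgHom.map_det]; rfl
        have h2 : HopfAlgebra.antipodeAlgHom R A (detInv R a) = a.det := by
          refine left_inv_eq_right_inv (a := detInv R a) ?_ (detInv_mul ha)
          rw [← h1, ← map_mul, h1, detInv_mul ha, map_one]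
        rw [h2]
        let a' : Matrix d d B := fun k l => ⟨a k l, entry_mem_coeffAlg k l⟩
        have : a.det = B.val a'.det := by rw [AlgHom.map_det]; rfl
        rw [this]
        exact a'.det.2
    exact hsub hb

end Coeff

section Sub

variable {k : Type u} [Field k] {A : Type v} [CommRing A] [HopfAlgebra k A] (B : Subalgebra k A)

omit [HopfAlgebra k A] in
lemma map_val_injective {k : Type u} [Field k] {A C : Type*} [CommRing A] [Algebra k A]
    [CommRing C] [Algebra k C] {D : Type*} [CommRing D] [Algebra k D] (f : A →ₐ[k] C)
    (hf : Function.Injective f) {A' : Type*} [CommRing A'] [Algebra k A'] (g : A' →ₐ[k] D)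
    (hg : Function.Injective g) : Function.Injective (Algebra.TensorProduct.map f g) := by
  have h : ⇑(Algebra.TensorProduct.map f g) =
      ⇑(g.toLinearMap.lTensor C ∘ₗ f.toLinearMap.rTensor A') := by
    rw [LinearMap.lTensor_comp_rTensor]
    rfl
  rw [h, LinearMap.coe_comp]
  exact (Module.Flat.lTensor_preserves_injective_linearMap _ hg).comp
    (Module.Flat.rTensor_preserves_injective_linearMap _ hf)

variable {B} (hB : IsHopfSub k A B)

/-- The comultiplication restricted to a Hopf subalgebra. -/
noncomputable def subComul : B →ₐ[k] B ⊗[k] B :=
  (AlgEquiv.ofInjective _ (map_val_injective B.val Subtype.val_injective B.val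
      Subtype.val_injective)).symm.toAlgHom.comp
    (((Bialgebra.comulAlgHom k A).comp B.val).codRestrict
      (Algebra.TensorProduct.map B.val B.val).range (fun b => by
        obtain ⟨y, hy⟩ := hB.1 b b.2
        exact ⟨y, hy⟩))

lemma map_subComul (b : B) :
    Algebra.TensorProduct.map B.val B.val (subComul hB b) = Bialgebra.comulAlgHom k A (b : A) := by
  have := congrArg Subtype.val (AlgEquiv.apply_symm_apply
    (AlgEquiv.ofInjective _ (map_val_injective B.val Subtype.val_injective B.val
      Subtype.val_injective))
    (((Bialgebra.comulAlgHom k A).comp B.val).codRestrict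
      (Algebra.TensorProduct.map B.val B.val).range (fun b => by
        obtain ⟨y, hy⟩ := hB.1 b b.2
        exact ⟨y, hy⟩) b))
  exact this

/-- The Hopf algebra structure on a Hopf subalgebra. -/
@[reducible] noncomputable def subHopf : HopfAlgebra k B := by
  letI : Bialgebra k B := Bialgebra.ofAlgHom (subComul hB)
    ((Bialgebra.counitAlgHom k A).comp B.val)
    (by
      refine AlgHom.ext fun b => ?_
      apply map_val_injective B.val Subtype.val_injective (Algebra.TensorProduct.map B.val B.val)
        (map_val_injective B.val Subtype.val_injective B.val Subtype.val_injective)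
      have hL : ∀ z : B ⊗[k] B, Algebra.TensorProduct.map B.val (Algebra.TensorProduct.map B.val B.val)
          (Algebra.TensorProduct.assoc k k k B B B
            (Algebra.TensorProduct.map (subComul hB) (AlgHom.id k B) z)) =
          TensorProduct.assoc k A A A ((CoalgebraStruct.comul (R := k) (A := A)).rTensor A
            (Algebra.TensorProduct.map B.val B.val z)) := by
        intro z
        induction z using TensorProduct.induction_on with
        | zero => simp
        | tmul p q =>
            simp only [Algebra.TensorProduct.map_tmul, LinearMap.rTensor_tmul, Subalgebra.coe_val,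
              AlgHom.id_apply]
            rw [← Bialgebra.comulAlgHom_apply, ← map_subComul hB p]
            generalize subComul hB p = y
            induction y using TensorProduct.induction_on with
            | zero => simp
            | tmul y z => simp
            | add y z hy hz => simp only [TensorProduct.add_tmul, map_add, hy, hz]
        | add p q hp hq => simp only [map_add, hp, hq]
      have hR : ∀ z : B ⊗[k] B, Algebra.TensorProduct.map B.val (Algebra.TensorProduct.map B.val B.val)
            (Algebra.TensorProduct.map (AlgHom.id k B) (subComul hB) z) =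
          (CoalgebraStruct.comul (R := k) (A := A)).lTensor A
            (Algebra.TensorProduct.map B.val B.val z) := by
        intro z
        induction z using TensorProduct.induction_on with
        | zero => simp
        | tmul p q => simp [map_subComul hB q]
        | add p q hp hq => simp only [map_add, hp, hq]
      simp only [AlgHom.comp_apply, AlgEquiv.coe_toAlgHom]
      rw [hL, hR, map_subComul, Bialgebra.comulAlgHom_apply, Coalgebra.coassoc_apply])
    (by
      refine AlgHom.ext fun b => ?_
      apply map_val_injective (AlgHom.id k k) Function.injective_id B.val Subtype.val_injective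
      have hL : ∀ z : B ⊗[k] B, Algebra.TensorProduct.map (AlgHom.id k k) B.val
          (Algebra.TensorProduct.map ((Bialgebra.counitAlgHom k A).comp B.val) (AlgHom.id k B) z) =
          (CoalgebraStruct.counit (R := k) (A := A)).rTensor A
            (Algebra.TensorProduct.map B.val B.val z) := by
        intro z
        induction z using TensorProduct.induction_on with
        | zero => simp
        | tmul p q => simp
        | add p q hp hq => simp only [map_add, hp, hq]
      simp only [AlgHom.comp_apply, AlgEquiv.coe_toAlgHom]
      rw [hL, map_subComul, Bialgebra.comulAlgHom_apply, Coalgebra.rTensor_counit_comul]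
      simp)
    (by
      refine AlgHom.ext fun b => ?_
      apply map_val_injective B.val Subtype.val_injective (AlgHom.id k k) Function.injective_id
      have hL : ∀ z : B ⊗[k] B, Algebra.TensorProduct.map B.val (AlgHom.id k k)
          (Algebra.TensorProduct.map (AlgHom.id k B) ((Bialgebra.counitAlgHom k A).comp B.val) z) =
          (CoalgebraStruct.counit (R := k) (A := A)).lTensor A
            (Algebra.TensorProduct.map B.val B.val z) := by
        intro z
        induction z using TensorProduct.induction_on with
        | zero => simp
        | tmul p q => simp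
        | add p q hp hq => simp only [map_add, hp, hq]
      simp only [AlgHom.comp_apply, AlgEquiv.coe_toAlgHom]
      rw [hL, map_subComul, Bialgebra.comulAlgHom_apply, Coalgebra.lTensor_counit_comul]
      simp)
  let S : B →ₐ[k] B :=
    ((HopfAlgebra.antipodeAlgHom k A).comp B.val).codRestrict B fun b => hB.2 _ b.2
  refine HopfAlgebra.ofAlgHom S ?_ ?_ <;> refine AlgHom.ext fun b => Subtype.ext ?_
  · have hL : ∀ z : B ⊗[k] B,
        ((Algebra.TensorProduct.lift S (AlgHom.id k B) (fun _ => Commute.all _) z : B) : A) =
          LinearMap.mul' k A ((HopfAlgebraStruct.antipode (R := k) (A := A)).rTensor A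
            (Algebra.TensorProduct.map B.val B.val z)) := by
      intro z
      induction z using TensorProduct.induction_on with
      | zero => simp
      | tmul p q => erw [Algebra.TensorProduct.lift_tmul]; rfl
      | add p q hp hq => simp only [map_add, Subalgebra.coe_add, hp, hq]
    rw [AlgHom.comp_apply, hL]
    erw [map_subComul hB b]
    rw [Bialgebra.comulAlgHom_apply, HopfAlgebra.mul_antipode_rTensor_comul_apply]
    rfl
  · have hL : ∀ z : B ⊗[k] B,
        ((Algebra.TensorProduct.lift (AlgHom.id k B) S (fun _ _ => Commute.all _ _) z : B) : A) =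
          LinearMap.mul' k A ((HopfAlgebraStruct.antipode (R := k) (A := A)).lTensor A
            (Algebra.TensorProduct.map B.val B.val z)) := by
      intro z
      induction z using TensorProduct.induction_on with
      | zero => simp
      | tmul p q => erw [Algebra.TensorProduct.lift_tmul]; rfl
      | add p q hp hq => simp only [map_add, Subalgebra.coe_add, hp, hq]
    rw [AlgHom.comp_apply, hL]
    erw [map_subComul hB b]
    rw [Bialgebra.comulAlgHom_apply, HopfAlgebra.mul_antipode_lTensor_comul_apply]
    rfl

end Sub

/-- Every finite set lies in a finitely generated Hopf subalgebra. -/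
lemma exists_fg_hopfSubalgebra {k : Type u} [Field k] {A : Type v} [CommRing A] [HopfAlgebra k A]
    (s : Finset A) :
    ∃ B : Subalgebra k A, (s : Set A) ⊆ B ∧ B.FG ∧ IsHopfSub k A B := by
  obtain ⟨n, a, ha, hs⟩ := Groth.Agent.Lib.Hopf.SubHopf.exists_corep_span_superset (k := k) s
  exact ⟨coeffAlg k a, fun x hx => span_entries_le_coeffAlg (hs hx), coeffAlg_fg,
    isHopfSubalgebra_coeffAlg ha⟩

end Groth.Agent.H83.HopfPts
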