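import Groth.Agent.H83.HopfPts.Points
import Groth.Agent.H1.Hopf
import Groth.Agent.Lib.GrpQ.DomFlat
import Mathlib

/-! Points of the spectrum of a Hopf algebra as morphisms from the unit object. -/

set_option autoImplicit false

universe u

open CategoryTheory MonoidalCategory CartesianMonoidalCategory AlgebraicGeometry

namespace Groth.Agent.H83.HopfPts

variable {k : Type u} [Field k] {A : Type u} [CommRing A] [HopfAlgebra k A]

/-- The morphism of a point. -/
noncomputable def pt (g : A →ₐ[k] k) :
    𝟙_ (Over (Spec (CommRingCat.of k))) ⟶ (Spec (CommRingCat.of A)).asOver (Spec (CommRingCat.of k)) :=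
  Over.homMk (Spec.map (CommRingCat.ofHom g.toRingHom)) (by
    show Spec.map (CommRingCat.ofHom g.toRingHom) ≫ Spec.map (CommRingCat.ofHom (algebraMap k A)) = 𝟙 (Spec (CommRingCat.of k))
    rw [← Spec.map_comp, ← CommRingCat.ofHom_comp, show g.toRingHom.comp (algebraMap k A) = RingHom.id k from g.comp_algebraMap,
      CommRingCat.ofHom_id, Spec.map_id])

theorem pt_left (g : A →ₐ[k] k) : (pt g).left = Spec.map (CommRingCat.ofHom g.toRingHom) := rfl

theorem exists_pt (x : 𝟙_ (Over (Spec (CommRingCat.of k))) ⟶ (Spec (CommRingCat.of A)).asOver (Spec (CommRingCat.of k))) :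
    ∃ g : A →ₐ[k] k, pt g = x := by
  obtain ⟨φ, hφ⟩ : ∃ φ, Spec.map φ = (x.left : Spec (CommRingCat.of k) ⟶ Spec (CommRingCat.of A)) :=
    ⟨Spec.preimage _, Spec.map_preimage _⟩
  have h := Over.w x
  have h' : CommRingCat.ofHom (algebraMap k A) ≫ φ = 𝟙 (CommRingCat.of k) := by
    apply Spec.map_injective
    rw [Spec.map_comp, Spec.map_id, hφ]
    exact h
  let g : A →ₐ[k] k :=
    { φ.hom with commutes' := fun c => congr($h' c) }
  exact ⟨g, Over.OverMorphism.ext hφ⟩

end Groth.Agent.H83.HopfPts
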